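import Mathlib
import Cfsg.Agent.Lib.Classical.Orth.Simple
import Cfsg.Agent.Lib.Classical.Orth.Adjust
import Cfsg.Agent.Lib.MinIndex.UCount

/-!
# Minimal degree of the orthogonal groups in dimension six of minus type: Eichler transformations, root groups, orbits
-/

set_option autoImplicit false
set_option linter.unusedSectionVars false
set_option linter.unusedSimpArgs false
set_option linter.unusedVariables false

namespace Cfsg.Agent.Lib.MinIndex.M6.Base

open Matrix QuadraticMap Module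
open Cfsg.Agent.Lib.Classical.Orth.Basic
open Cfsg.Agent.Lib.Classical.Orth.Siegel
open Cfsg.Agent.Lib.Classical.Orth.Generation
open Cfsg.Agent.Lib.Classical.Orth.Simple
open Cfsg.Agent.Lib.Classical.Witt.Hyp
open Cfsg.Agent.Lib.MinIndex.SpCount Cfsg.Agent.Lib.MinIndex.UCount

variable {ι : Type} [Fintype ι] [DecidableEq ι] {F : Type*} [Field F] [Fintype F]
variable {Q : QuadraticForm F (ι → F)}

set_option quotPrecheck false in
local notation "𝔣" => polar (⇑Q)

/-- The standing assumptions on the quadratic space. -/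
class OC (Q : QuadraticForm F (ι → F)) : Prop where
  nd : (polarBilin Q).Nondegenerate
  dim : Fintype.card ι = 6
  ts : ∀ X : Submodule F (ι → F), (∀ x ∈ X, Q x = 0) → finrank F X ≤ 2

/-- The group. -/
abbrev GG (Q : QuadraticForm F (ι → F)) := ↥(Cfsg.Omega F (⇑Q))

theorem OC.five [OC Q] : 5 ≤ Fintype.card ι := by
  have := OC.dim (Q := Q)
  omega

theorem OC.nd' [OC Q] : PolarNondeg Q := polarNondeg_of_nondeg Q OC.nd

theorem polar_zero_self {z : ι → F} (hz : Q z = 0) : 𝔣 z z = 0 := by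
  rw [polar_self_eq, hz, mul_zero]

theorem polar_symm (x y : ι → F) : 𝔣 x y = 𝔣 y x := polar_comm _ _ _

theorem eq_zero_of_perp [OC Q] {x : ι → F} (h : ∀ y, 𝔣 x y = 0) : x = 0 := OC.nd' x h

section E

variable [OC Q]

/-- An Eichler transformation in the group. -/
noncomputable def E {z b : ι → F} (hz : Q z = 0) (hb : 𝔣 z b = 0) : GG Q :=
  eichlerΩ (OC.nd (Q := Q)) (OC.five (Q := Q)) hz hb

theorem act_E {z b : ι → F} (hz : Q z = 0) (hb : 𝔣 z b = 0) (x : ι → F) :
    act (E hz hb).1 x = x + (𝔣 z x) • b - (𝔣 b x) • z - (Q b * 𝔣 z x) • z :=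
  act_eichlerIso hz hb x

theorem ext_GG {g g' : GG Q} (h : ∀ x, act g.1 x = act g'.1 x) : g = g' :=
  Subtype.ext (ext_act h)

theorem act_GG_mul (g g' : GG Q) (x : ι → F) : act (g * g').1 x = act g.1 (act g'.1 x) :=
  act_mul g.1 g'.1 x

theorem act_GG_one (x : ι → F) : act (1 : GG Q).1 x = x := act_one x

theorem act_GG_inv_act (g : GG Q) (x : ι → F) : act (g⁻¹).1 (act g.1 x) = x := act_inv_act g.1 x

theorem act_GG_act_inv (g : GG Q) (x : ι → F) : act g.1 (act (g⁻¹).1 x) = x := act_act_inv g.1 x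

theorem E_congr {z z' b b' : ι → F} (h : z = z') (h' : b = b') (hz : Q z = 0) (hb : 𝔣 z b = 0)
    (hz' : Q z' = 0) (hb' : 𝔣 z' b' = 0) : E hz hb = E hz' hb' := by
  subst h
  subst h'
  rfl

theorem E_mul {z b b' : ι → F} (hz : Q z = 0) (hb : 𝔣 z b = 0) (hb' : 𝔣 z b' = 0) :
    E hz hb * E hz hb' = E hz (by rw [polar_add_right, hb, hb', add_zero] : 𝔣 z (b + b') = 0) :=
  Subtype.ext (eichlerIso_mul hz hb hb')

theorem E_add {z b b' : ι → F} (hz : Q z = 0) (h : 𝔣 z (b + b') = 0) (hb : 𝔣 z b = 0) (hb' : 𝔣 z b' = 0) :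
    E hz h = E hz hb * E hz hb' := (E_mul hz hb hb').symm

theorem E_zero {z b : ι → F} (hz : Q z = 0) (hb : 𝔣 z b = 0) (h0 : b = 0) : E hz hb = 1 := by
  subst h0
  exact Subtype.ext (eichlerIso_zero_right hz hb)

theorem E_zero_left {z b : ι → F} (hz : Q z = 0) (hb : 𝔣 z b = 0) (h0 : z = 0) : E hz hb = 1 := by
  subst h0
  exact Subtype.ext (eichlerIso_zero_left hz hb)

theorem conj_E (g : GG Q) {z b : ι → F} (hz : Q z = 0) (hb : 𝔣 z b = 0) :
    g * E hz hb * g⁻¹ = E (by rwa [Q_act] : Q (act g.1 z) = 0) (by rwa [polar_act] : 𝔣 (act g.1 z) (act g.1 b) = 0) :=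
  Subtype.ext (conj_eichlerIso g.1 hz hb)

theorem E_smul_left (t : F) {z b : ι → F} (hz : Q z = 0) (htz : Q (t • z) = 0) (hb : 𝔣 (t • z) b = 0)
    (hb' : 𝔣 z (t • b) = 0) : E htz hb = E hz hb' :=
  Subtype.ext (eichlerIso_smul t hz hb htz hb')

theorem E_swap {z b : ι → F} (hz : Q z = 0) (hb' : Q b = 0) (hb : 𝔣 z b = 0) (h : 𝔣 b (-z) = 0) :
    E hz hb = E hb' h := by
  apply ext_GG
  intro x
  rw [act_E, act_E, hb', polar_neg_left, QuadraticMap.map_neg, hz]
  simp only [mul_zero, zero_mul, zero_smul, sub_zero, neg_zero, neg_mul]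
  have e : 𝔣 (-z) x = -𝔣 z x := by rw [polar_neg_left]
  module

theorem E_add_self {z b : ι → F} (hz : Q z = 0) (t : F) (hb : 𝔣 z b = 0) (h : 𝔣 z (b + t • z) = 0) :
    E hz h = E hz hb := by
  apply ext_GG
  intro x
  have hbz : 𝔣 b z = 0 := by rw [polar_symm]; exact hb
  rw [act_E, act_E, polar_add_left, polar_smul_left', Q_add, Q_smul, hz, polar_smul_right', hbz]
  simp only [mul_zero, add_zero, zero_add]
  module

/-- A power of an Eichler transformation. -/
theorem E_pow {z b : ι → F} (hz : Q z = 0) (hb : 𝔣 z b = 0) (k : ℕ) (h : 𝔣 z ((k : F) • b) = 0) :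
    E hz hb ^ k = E hz h := by
  induction k with
  | zero =>
    rw [pow_zero]
    exact (E_zero hz h (by simp)).symm
  | succ k ih =>
    have h1 : 𝔣 z ((k : F) • b) = 0 := by rw [polar_smul_right', hb, mul_zero]
    rw [pow_succ, ih h1, E_mul]
    exact E_congr rfl (by push_cast; module) _ _ _ _

/-- The `p`-th power is trivial in characteristic `p`. -/
theorem E_pow_char {z b : ι → F} (hz : Q z = 0) (hb : 𝔣 z b = 0) {p : ℕ} (hp : (p : F) = 0) :
    E hz hb ^ p = 1 := by
  have h1 : 𝔣 z ((p : F) • b) = 0 := by rw [polar_smul_right', hb, mul_zero]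
  rw [E_pow hz hb p h1]
  exact E_zero hz h1 (by rw [hp, zero_smul])

/-- Eichler transformations fixing the vectors perpendicular to their data. -/
theorem act_E_of_perp {z b x : ι → F} (hz : Q z = 0) (hb : 𝔣 z b = 0) (h1 : 𝔣 z x = 0) (h2 : 𝔣 b x = 0) :
    act (E hz hb).1 x = x := by
  rw [act_E, h1, h2]
  simp

/-- The vector itself is fixed. -/
theorem act_E_self {z b : ι → F} (hz : Q z = 0) (hb : 𝔣 z b = 0) : act (E hz hb).1 z = z :=
  act_E_of_perp hz hb (polar_zero_self hz) (by rw [polar_symm]; exact hb)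

/-- A vector is moved to a vector with the same value of the form and the same pairing with `e`. -/
theorem act_E_move {e x y : ι → F} (he : Q e = 0) (hxy : Q x = Q y) (hex : 𝔣 e x ≠ 0) (hey : 𝔣 e x = 𝔣 e y)
    (hb : 𝔣 e ((𝔣 e x)⁻¹ • (y - x)) = 0) :
    act (E he hb).1 x = y := by
  rw [act_E]
  set a := 𝔣 e x with ha
  have h1 : 𝔣 ((a)⁻¹ • (y - x)) x = a⁻¹ * (𝔣 y x - 𝔣 x x) := by
    rw [polar_smul_left', polar_sub_left]
  have h2 : Q (a⁻¹ • (y - x)) = a⁻¹ * a⁻¹ * (Q y + Q x - 𝔣 y x) := by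
    rw [Q_smul, Q_sub]
  rw [h1, h2, polar_self_eq]
  have h3 : a⁻¹ * (𝔣 y x - 2 * Q x) + a⁻¹ * a⁻¹ * (Q y + Q x - 𝔣 y x) * a = 0 := by
    rw [← hxy]
    field_simp
    ring
  have h4 : (a⁻¹ * (𝔣 y x - 2 * Q x)) • e + (a⁻¹ * a⁻¹ * (Q y + Q x - 𝔣 y x) * a) • e = (0 : ι → F) := by
    rw [← add_smul, h3, zero_smul]
  have h5 : a • a⁻¹ • (y - x) = y - x := by
    rw [smul_smul, mul_inv_cancel₀ hex, one_smul]
  rw [h5]
  linear_combination (norm := module) -h4

end E

/-! ### Hyperbolic pairs -/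

/-- A hyperbolic pair. -/
structure HP (Q : QuadraticForm F (ι → F)) (c c' : ι → F) : Prop where
  hc : Q c = 0
  hc' : Q c' = 0
  hp : polar (⇑Q) c c' = 1

theorem HP.hp' {c c' : ι → F} (h : HP Q c c') : 𝔣 c' c = 1 := by
  rw [polar_symm]
  exact h.hp

theorem HP.ne_zero {c c' : ι → F} (h : HP Q c c') : c ≠ 0 := by
  rintro rfl
  have := h.hp
  simp [polar] at this

theorem HP.ne_zero' {c c' : ι → F} (h : HP Q c c') : c' ≠ 0 := by
  rintro rfl
  have := h.hp
  simp [polar] at this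

theorem HP.cc {c c' : ι → F} (h : HP Q c c') : 𝔣 c c = 0 := polar_zero_self h.hc

theorem HP.cc' {c c' : ι → F} (h : HP Q c c') : 𝔣 c' c' = 0 := polar_zero_self h.hc'

theorem HP.symm {c c' : ι → F} (h : HP Q c c') : HP Q c' c := ⟨h.hc', h.hc, h.hp'⟩

theorem HP.scale {c c' : ι → F} (h : HP Q c c') {l : F} (hl : l ≠ 0) : HP Q (l • c) (l⁻¹ • c') := by
  refine ⟨by rw [Q_smul, h.hc, mul_zero], by rw [Q_smul, h.hc', mul_zero], ?_⟩
  rw [polar_smul_left', polar_smul_right', h.hp]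
  field_simp

/-- The orthogonal complement of the pair. -/
abbrev WW (Q : QuadraticForm F (ι → F)) (c c' : ι → F) : Submodule F (ι → F) := perpPair Q c c'

theorem mem_WW {c c' x : ι → F} : x ∈ WW Q c c' ↔ 𝔣 c x = 0 ∧ 𝔣 c' x = 0 := mem_perpPair

theorem WW_left {c c' x : ι → F} (hx : x ∈ WW Q c c') : 𝔣 c x = 0 := (mem_WW.mp hx).1

theorem WW_right {c c' x : ι → F} (hx : x ∈ WW Q c c') : 𝔣 c' x = 0 := (mem_WW.mp hx).2

theorem WW_left' {c c' x : ι → F} (hx : x ∈ WW Q c c') : 𝔣 x c = 0 := by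
  rw [polar_symm]
  exact WW_left hx

theorem WW_right' {c c' x : ι → F} (hx : x ∈ WW Q c c') : 𝔣 x c' = 0 := by
  rw [polar_symm]
  exact WW_right hx

/-- Decomposition along a hyperbolic pair. -/
theorem HP.sub_mem {c c' : ι → F} (h : HP Q c c') (v : ι → F) :
    v - 𝔣 c' v • c - 𝔣 c v • c' ∈ WW Q c c' := sub_mem_perpPair h.hc h.hc' h.hp v

/-- Nondegeneracy on the complement. -/
theorem HP.nondeg [OC Q] {c c' : ι → F} (h : HP Q c c') {x : ι → F} (hx : x ∈ WW Q c c')
    (hall : ∀ y ∈ WW Q c c', 𝔣 x y = 0) : x = 0 := by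
  apply eq_zero_of_perp (Q := Q)
  intro v
  have h1 := hall _ (h.sub_mem v)
  rw [polar_sub_right, polar_sub_right, polar_smul_right', polar_smul_right', WW_left' hx, WW_right' hx] at h1
  simpa using h1

/-- Swapping a hyperbolic pair does not change the complement. -/
theorem WW_symm (c c' : ι → F) : WW Q c' c = WW Q c c' := by
  ext x
  rw [mem_WW, mem_WW]
  tauto

/-- Scaling a hyperbolic pair does not change the complement. -/
theorem WW_scale (c c' : ι → F) {l : F} (hl : l ≠ 0) : WW Q (l • c) (l⁻¹ • c') = WW Q c c' := by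
  ext x
  rw [mem_WW, mem_WW, polar_smul_left', polar_smul_left']
  have hl' : l⁻¹ ≠ 0 := inv_ne_zero hl
  simp [hl, hl']

/-! ### Elements normalizing a pair -/

/-- Elements scaling a hyperbolic pair. -/
structure Nrm [OC Q] (g : GG Q) (l : F) (c c' : ι → F) : Prop where
  l0 : l ≠ 0
  left : act g.1 c = l • c
  right : act g.1 c' = l⁻¹ • c'

section Nrm

variable [OC Q] {c c' : ι → F}

theorem Nrm.one_of_fix {g : GG Q} (h1 : act g.1 c = c) (h2 : act g.1 c' = c') : Nrm g 1 c c' :=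
  ⟨one_ne_zero, by rw [one_smul, h1], by rw [inv_one, one_smul, h2]⟩

theorem Nrm.mul {g g' : GG Q} {l l' : F} (h : Nrm g l c c') (h' : Nrm g' l' c c') : Nrm (g * g') (l * l') c c' := by
  refine ⟨mul_ne_zero h.l0 h'.l0, ?_, ?_⟩
  · rw [act_GG_mul, h'.left, act_smul, h.left, smul_smul, mul_comm]
  · rw [act_GG_mul, h'.right, act_smul, h.right, smul_smul, mul_inv]
    congr 1
    ring

theorem Nrm.inv {g : GG Q} {l : F} (h : Nrm g l c c') : Nrm g⁻¹ l⁻¹ c c' := by
  have hl := h.l0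
  refine ⟨inv_ne_zero hl, ?_, ?_⟩
  · have h1 := act_GG_inv_act g c
    rw [h.left, act_smul] at h1
    have h2 := congrArg (fun x => l⁻¹ • x) h1
    simp only [smul_smul, inv_mul_cancel₀ hl, one_smul] at h2
    exact h2
  · have h1 := act_GG_inv_act g c'
    rw [h.right, act_smul] at h1
    have h2 := congrArg (fun x => l • x) h1
    simp only [smul_smul, mul_inv_cancel₀ hl, one_smul] at h2
    rw [inv_inv]
    exact h2

theorem Nrm.act_mem {g : GG Q} {l : F} (h : Nrm g l c c') {x : ι → F} (hx : x ∈ WW Q c c') :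
    act g.1 x ∈ WW Q c c' := by
  have hl := h.l0
  rw [mem_WW]
  constructor
  · have h1 := polar_act g.1 c x
    rw [h.left, polar_smul_left', WW_left hx] at h1
    exact (mul_eq_zero.mp h1).resolve_left hl
  · have h1 := polar_act g.1 c' x
    rw [h.right, polar_smul_left', WW_right hx] at h1
    exact (mul_eq_zero.mp h1).resolve_left (inv_ne_zero hl)

/-- The additive automorphism of the complement induced by an element scaling the pair, with a scalar. -/
noncomputable def lvE {g : GG Q} {l : F} (h : Nrm g l c c') (s : F) (hs : s ≠ 0) : WW Q c c' ≃+ WW Q c c' where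
  toFun x := ⟨s • act g.1 x.1, Submodule.smul_mem _ _ (h.act_mem x.2)⟩
  invFun x := ⟨s⁻¹ • act (g⁻¹).1 x.1, Submodule.smul_mem _ _ (h.inv.act_mem x.2)⟩
  left_inv x := by
    apply Subtype.ext
    show s⁻¹ • act (g⁻¹).1 (s • act g.1 x.1) = x.1
    rw [act_smul, act_GG_inv_act, smul_smul, inv_mul_cancel₀ hs, one_smul]
  right_inv x := by
    apply Subtype.ext
    show s • act g.1 (s⁻¹ • act (g⁻¹).1 x.1) = x.1
    rw [act_smul, act_GG_act_inv, smul_smul, mul_inv_cancel₀ hs, one_smul]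
  map_add' x y := by
    apply Subtype.ext
    show s • act g.1 (x.1 + y.1) = s • act g.1 x.1 + s • act g.1 y.1
    rw [act_add, smul_add]

@[simp] theorem coe_lvE {g : GG Q} {l : F} (h : Nrm g l c c') (s : F) (hs : s ≠ 0) (x : WW Q c c') :
    ((lvE h s hs x : WW Q c c') : ι → F) = s • act g.1 x.1 := rfl

end Nrm

/-! ### Root groups and sets -/

section Act

variable [OC Q] {Ω : Type*} [MulAction (GG Q) Ω] {c c' : ι → F}

/-- The action of the complement through Eichler transformations. -/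
noncomputable def wS (h : HP Q c c') (Ω : Type*) [MulAction (GG Q) Ω] : WSet (WW Q c c') Ω where
  act w y := E h.hc (WW_left w.2) • y
  act_zero y := by
    have : E h.hc (WW_left (0 : WW Q c c').2) = 1 := E_zero _ _ rfl
    rw [this, one_smul]
  act_add a b y := by
    rw [← mul_smul, E_mul]

theorem wS_act (h : HP Q c c') (w : WW Q c c') (y : Ω) : (wS h Ω).act w y = E h.hc (WW_left w.2) • y := rfl

/-- The pairing on the complement. -/
noncomputable def pW (h : HP Q c c') (ψ : AddChar F ℂ) (hψ : ψ ≠ 1) : Pairing (WW Q c c') where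
  P x r := ψ (𝔣 x.1 r.1)
  add_left x x' r := by
    show ψ (𝔣 (x.1 + x'.1) r.1) = _
    rw [polar_add_left, AddChar.map_add_eq_mul]
  add_right x r r' := by
    show ψ (𝔣 x.1 (r.1 + r'.1)) = _
    rw [polar_add_right, AddChar.map_add_eq_mul]
  zero_left r := by
    show ψ (𝔣 0 r.1) = 1
    simp [polar]
  zero_right x := by
    show ψ (𝔣 x.1 0) = 1
    simp [polar]
  nondeg r hr := by
    obtain ⟨t, ht⟩ := AddChar.ne_one_iff.mp hψ
    have hr0 : r.1 ≠ 0 := fun h0 => hr (Subtype.ext h0)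
    obtain ⟨y, hy, hy0⟩ : ∃ y ∈ WW Q c c', 𝔣 y r.1 ≠ 0 := by
      by_contra hcon
      push Not at hcon
      apply hr0
      apply h.nondeg r.2
      intro y hy
      rw [polar_symm]
      exact hcon y hy
    refine ⟨⟨(t / 𝔣 y r.1) • y, Submodule.smul_mem _ _ hy⟩, ?_⟩
    show ψ (𝔣 ((t / 𝔣 y r.1) • y) r.1) ≠ 1
    rw [polar_smul_left', div_mul_cancel₀ _ hy0]
    exact ht
  symm x r h' := by
    show ψ (𝔣 r.1 x.1) = 1
    rw [polar_symm]
    exact h'

theorem pW_P (h : HP Q c c') (ψ : AddChar F ℂ) (hψ : ψ ≠ 1) (x r : WW Q c c') :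
    (pW h ψ hψ).P x r = ψ (𝔣 x.1 r.1) := rfl

/-- The symmetry attached to an element scaling the pair. -/
noncomputable def symOf (h : HP Q c c') (ψ : AddChar F ℂ) (hψ : ψ ≠ 1) {g : GG Q} {l : F} (hN : Nrm g l c c') :
    Sym (wS h Ω) (pW h ψ hψ) where
  κ y := g • y
  inj := MulAction.injective g
  φ := lvE hN l hN.l0
  ϕ := lvE hN l⁻¹ (inv_ne_zero hN.l0)
  hc w y := by
    rw [wS_act, wS_act, ← mul_smul, ← mul_smul]
    congr 1
    have h1 := conj_E g h.hc (WW_left w.2)
    have h2 : g * E h.hc (WW_left w.2) = E (by rw [Q_act]; exact h.hc : Q (act g.1 c) = 0)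
        (by rw [polar_act]; exact WW_left w.2 : 𝔣 (act g.1 c) (act g.1 w.1) = 0) * g := by
      rw [← h1]
      group
    rw [h2]
    congr 1
    have h3 : 𝔣 (l • c) (act g.1 w.1) = 0 := by
      rw [← hN.left, polar_act]
      exact WW_left w.2
    have h4 : Q (l • c) = 0 := by rw [Q_smul, h.hc, mul_zero]
    rw [E_congr hN.left rfl _ _ h4 h3]
    exact E_smul_left l h.hc h4 h3 _
  hp x r := by
    show ψ (𝔣 (l⁻¹ • act g.1 x.1) (l • act g.1 r.1)) = ψ (𝔣 x.1 r.1)
    rw [polar_smul_left', polar_smul_right', polar_act]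
    congr 1
    have hl := hN.l0
    field_simp

end Act

end Cfsg.Agent.Lib.MinIndex.M6.Base
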