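import Mathlib
import Cfsg.Agent.Lib.MinIndex.M6.Reg

/-!
# Minimal degree of the orthogonal groups: the case of fixed points of root groups
-/

set_option autoImplicit false
set_option linter.unusedSectionVars false
set_option linter.unusedSimpArgs false
set_option linter.unusedVariables false

namespace Cfsg.Agent.Lib.MinIndex.M6.Fix

open Matrix QuadraticMap Module
open Cfsg.Agent.Lib.Classical.Orth.Basic
open Cfsg.Agent.Lib.Classical.Orth.Siegel
open Cfsg.Agent.Lib.Classical.Orth.Generation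
open Cfsg.Agent.Lib.Classical.Orth.Simple
open Cfsg.Agent.Lib.Classical.Witt.Hyp
open Cfsg.Agent.Lib.MinIndex.SpCount Cfsg.Agent.Lib.MinIndex.UCount
open Cfsg.Agent.Lib.MinIndex.M6.Base Cfsg.Agent.Lib.MinIndex.M6.Vec Cfsg.Agent.Lib.MinIndex.M6.Good
open Cfsg.Agent.Lib.MinIndex.M6.Types Cfsg.Agent.Lib.MinIndex.M6.Line Cfsg.Agent.Lib.MinIndex.M6.Step Cfsg.Agent.Lib.MinIndex.M6.Reg

variable {ι : Type} [Fintype ι] [DecidableEq ι] {F : Type*} [Field F] [Fintype F]
variable {Q : QuadraticForm F (ι → F)} [OC Q]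

set_option quotPrecheck false in
local notation "𝔣" => polar (⇑Q)

variable {Ω : Type*} [MulAction (GG Q) Ω]

/-- Images of points fixed by root groups. -/
theorem RFix_act {ω : Ω} {x : ι → F} (h : RFix Q ω x) (g : GG Q) : RFix Q (g • ω) (act g.1 x) := by
  obtain ⟨hx, h⟩ := h
  have hgx : Q (act g.1 x) = 0 := by rw [Q_act, hx]
  refine ⟨hgx, fun b hb => ?_⟩
  have hb' : 𝔣 x (act (g⁻¹).1 b) = 0 := by
    have h1 := polar_act g.1 x (act (g⁻¹).1 b)
    rw [act_GG_act_inv] at h1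
    rw [← h1]
    exact hb
  have h1 := conj_E g hx hb'
  have h2 : E hgx hb = E (by rw [Q_act]; exact hx : Q (act g.1 x) = 0)
      (by rw [polar_act]; exact hb' : 𝔣 (act g.1 x) (act g.1 (act (g⁻¹).1 b)) = 0) :=
    E_congr rfl (act_GG_act_inv g b).symm _ _ _ _
  rw [h2, ← h1, mul_smul, mul_smul, inv_smul_smul, h _ hb']

theorem RFix_smul {ω : Ω} {x : ι → F} (h : RFix Q ω x) (t : F) : RFix Q ω (t • x) := by
  obtain ⟨hx, h⟩ := h
  have hx' : Q (t • x) = 0 := by rw [Q_smul, hx, mul_zero]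
  refine ⟨hx', fun b hb => ?_⟩
  have hb' : 𝔣 x (t • b) = 0 := by
    rw [polar_smul_left'] at hb
    rw [polar_smul_right', hb]
  rw [E_smul_left t hx hx' hb hb']
  exact h _ hb'

theorem RFix_zero (ω : Ω) : RFix Q ω (0 : ι → F) := by
  have h0 : Q (0 : ι → F) = 0 := by simp
  refine ⟨h0, fun b hb => ?_⟩
  rw [E_zero_left h0 hb rfl, one_smul]

/-- All the root groups fix the point: it is a fixed point of the group. -/
theorem all_fix {ω : Ω} (hall : ∀ a : ι → F, Q a = 0 → RFix Q ω a) (g : GG Q) : g • ω = ω := by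
  set S : Subgroup ↥(Cfsg.isometryGroup F (⇑Q)) :=
    (MulAction.stabilizer (GG Q) ω).map (Cfsg.Omega F (⇑Q)).subtype with hS
  have hle : rootGroup Q ≤ S := by
    unfold rootGroup
    rw [Subgroup.closure_le]
    intro g' hg'
    obtain ⟨u, v, c, hu, hv, huv, rfl⟩ := mem_siegelSet_iff.1 hg'
    obtain ⟨hu', hfix⟩ := hall u hu
    have hb : 𝔣 u (c • v) = 0 := by rw [polar_smul_right', huv, mul_zero]
    exact ⟨E hu hb, hfix _ hb, rfl⟩
  have h1 : (g : ↥(Cfsg.isometryGroup F (⇑Q))) ∈ rootGroup Q := by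
    rw [← omega_eq_rootGroup' (OC.nd (Q := Q)) (OC.five (Q := Q))]
    exact g.2
  obtain ⟨x, hx, hxg⟩ := hle h1
  have : x = g := Subtype.ext hxg
  rw [← this]
  exact hx

/-- The basic step. -/
theorem pts_step' {ω : Ω} {p z y : ι → F} (hp : RFix Q ω p) (hz : RFix Q ω z) (hy : Q y = 0) (hpz : 𝔣 p z ≠ 0)
    (hpy : 𝔣 p y ≠ 0) : RFix Q ω y := by
  obtain ⟨hp0, hE⟩ := hp
  have hz0 := hz.1
  set s := (𝔣 p z)⁻¹ with hs
  set t := (𝔣 p y)⁻¹ with ht
  have ht0 : t ≠ 0 := inv_ne_zero hpy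
  have h1 : 𝔣 p (s • z) = 1 := by
    rw [polar_smul_right', hs, inv_mul_cancel₀ hpz]
  have h2 : 𝔣 p (t • y) = 1 := by
    rw [polar_smul_right', ht, inv_mul_cancel₀ hpy]
  have hz' : Q (s • z) = 0 := by rw [Q_smul, hz0, mul_zero]
  have hy' : Q (t • y) = 0 := by rw [Q_smul, hy, mul_zero]
  have hb : 𝔣 p ((𝔣 p (s • z))⁻¹ • (t • y - s • z)) = 0 := by
    rw [polar_smul_right', polar_sub_right, h1, h2, sub_self, mul_zero]
  have hm := act_E_move hp0 (by rw [hz', hy']) (by rw [h1]; exact one_ne_zero) (by rw [h1, h2]) hb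
  have h3 := RFix_act (RFix_smul hz s) (E hp0 hb)
  rw [hm, hE _ hb] at h3
  have h4 := RFix_smul h3 t⁻¹
  rwa [smul_smul, inv_mul_cancel₀ ht0, one_smul] at h4

/-- Two root groups with non-perpendicular vectors fixing a point: a fixed point of the group. -/
theorem fix_of_nonperp {ω : Ω} {p z : ι → F} (hp : RFix Q ω p) (hz : RFix Q ω z) (hpz : 𝔣 p z ≠ 0) (g : GG Q) :
    g • ω = ω := by
  apply all_fix
  intro y hy
  by_cases hy0 : y = 0
  · rw [hy0]
    exact RFix_zero ω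
  by_cases hpy : 𝔣 p y = 0
  swap
  · exact pts_step' hp hz hy hpz hpy
  have hp0 : p ≠ 0 := by
    rintro rfl
    apply hpz
    simp [polar]
  obtain ⟨w, -, hw, h1, h2⟩ := exists_common_nonperp (OC.nd (Q := Q)) hp0 hy0 hp.1 (by rw [polar_comm]; exact hpy)
  have hwp : RFix Q ω w := pts_step' hp hz hw hpz h1
  exact pts_step' hwp hp hy (by rw [polar_comm]; exact h1) (by rw [polar_comm]; exact h2)

section HNE

variable (hne : ∀ ω : Ω, ∃ g : GG Q, g • ω ≠ ω)

include hne

theorem RFix_perp {ω : Ω} {x y : ι → F} (hx : RFix Q ω x) (hy : RFix Q ω y) : 𝔣 x y = 0 := by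
  by_contra hcon
  obtain ⟨g, hg⟩ := hne ω
  exact hg (fix_of_nonperp hx hy hcon g)

theorem RFix_add {ω : Ω} {x y : ι → F} (hx : RFix Q ω x) (hy : RFix Q ω y) : RFix Q ω (x + y) := by
  by_cases hxy : y ∈ Submodule.span F {x}
  · obtain ⟨t, rfl⟩ := Submodule.mem_span_singleton.1 hxy
    have e : x + t • x = (1 + t) • x := by module
    rw [e]
    exact RFix_smul hx _
  · obtain ⟨s, hs1, hs2⟩ := exists_sep (Q := Q) hxy
    have hxs : 𝔣 x s = 0 := hs2 _ (Submodule.subset_span rfl)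
    have hperp := RFix_perp hne hx hy
    obtain ⟨hx0, hE⟩ := id hx
    have hb : 𝔣 x (-s) = 0 := by
      rw [polar_neg_right, hxs, neg_zero]
    have h1 := RFix_act hy (E hx0 hb)
    rw [hE _ hb, act_E, hperp, polar_neg_left, polar_symm s y, hs1] at h1
    have e : y + (0 : F) • (-s) - (-1 : F) • x - (Q (-s) * 0) • x = x + y := by
      module
    rwa [e] at h1

/-- The subspace of a point. -/
def XS (hne : ∀ ω : Ω, ∃ g : GG Q, g • ω ≠ ω) (ω : Ω) : Submodule F (ι → F) where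
  carrier := {x | RFix Q ω x}
  add_mem' := fun hx hy => RFix_add hne hx hy
  zero_mem' := RFix_zero ω
  smul_mem' := fun t _ hx => RFix_smul hx t

omit hne in
theorem mem_XS {hne : ∀ ω : Ω, ∃ g : GG Q, g • ω ≠ ω} {ω : Ω} {x : ι → F} : x ∈ XS hne ω ↔ RFix Q ω x := Iff.rfl

theorem XS_Q {ω : Ω} {x : ι → F} (hx : x ∈ XS hne ω) : Q x = 0 := hx.1

theorem XS_perp {ω : Ω} {x y : ι → F} (hx : x ∈ XS hne ω) (hy : y ∈ XS hne ω) : 𝔣 x y = 0 := RFix_perp hne hx hy

/-- The dimension of the subspace does not increase under the action. -/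
theorem finrank_XS_le (g : GG Q) (ω : Ω) : finrank F (XS hne (g • ω)) ≤ finrank F (XS hne ω) := by
  have h1 : XS hne (g • ω) ≤ (XS hne ω).map (Matrix.mulVecLin ((g.1 : GL ι F) : Matrix ι ι F)) := by
    intro y hy
    refine ⟨act (g⁻¹).1 y, ?_, act_GG_act_inv g y⟩
    have := RFix_act hy g⁻¹
    rwa [inv_smul_smul] at this
  exact (Submodule.finrank_mono h1).trans (Submodule.finrank_map_le _ _)

theorem finrank_XS_eq (g : GG Q) (ω : Ω) : finrank F (XS hne (g • ω)) = finrank F (XS hne ω) := by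
  apply le_antisymm (finrank_XS_le hne g ω)
  have := finrank_XS_le hne g⁻¹ (g • ω)
  rwa [inv_smul_smul] at this

end HNE

/-! ### Counting -/

/-- The nonzero singular vectors of a subspace. -/
noncomputable def singOf (Q : QuadraticForm F (ι → F)) (U : Submodule F (ι → F)) : Finset (ι → F) := by
  classical
  exact Finset.univ.filter fun x => x ≠ 0 ∧ Q x = 0 ∧ x ∈ U

theorem mem_singOf {U : Submodule F (ι → F)} {x : ι → F} : x ∈ singOf Q U ↔ x ≠ 0 ∧ Q x = 0 ∧ x ∈ U := by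
  classical
  simp [singOf]

omit [OC Q] in
/-- The number of vectors of a subspace. -/
theorem card_nonzero [DecidableEq (ι → F)] (X : Submodule F (ι → F)) [DecidablePred (· ∈ X)] :
    ((Finset.univ.filter (fun x : ι → F => x ∈ X)).erase 0).card = Fintype.card F ^ finrank F X - 1 := by
  rw [Finset.card_erase_of_mem (by simp [X.zero_mem])]
  have h1 : (Finset.univ.filter (fun x : ι → F => x ∈ X)).card = Fintype.card X := (Fintype.card_subtype _).symm
  rw [h1, Module.card_eq_pow_finrank (K := F) (V := X)]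

/-- The incidences in a set of points. -/
theorem double_count {A B : Type*} (S : Finset A) (L : Finset B) (R : A → B → Prop) {a f : ℕ}
    [∀ ω x, Decidable (R ω x)]
    (h1 : ∀ ω ∈ S, (L.filter (R ω ·)).card = a) (h2 : ∀ x ∈ L, (S.filter (R · x)).card = f) :
    S.card * a = L.card * f := by
  classical
  have := Finset.sum_card_bipartiteAbove_eq_sum_card_bipartiteBelow (s := S) (t := L) R
  unfold Finset.bipartiteAbove Finset.bipartiteBelow at this
  rw [Finset.sum_congr rfl h1, Finset.sum_congr rfl h2] at this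
  simpa [mul_comm] using this

/-- The subspace of vectors of `X` perpendicular to `a'`, containing `a` with `a' ⟂̸ a`. -/
theorem finrank_perp (X : Submodule F (ι → F)) {a a' : ι → F} (ha : a ∈ X) (haa : 𝔣 a' a = 1) :
    finrank F ↥(X ⊓ LinearMap.ker (polarBilin Q a')) + 1 = finrank F X := by
  have h1 := Submodule.finrank_sup_add_finrank_inf_eq X (LinearMap.ker (polarBilin Q a'))
  have htop : X ⊔ LinearMap.ker (polarBilin Q a') = ⊤ := by
    rw [eq_top_iff]
    intro x _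
    have e : x = 𝔣 a' x • a + (x - 𝔣 a' x • a) := by abel
    rw [e]
    refine Submodule.add_mem_sup (X.smul_mem _ ha) ?_
    show 𝔣 a' (x - 𝔣 a' x • a) = 0
    rw [polar_sub_right, polar_smul_right', haa]
    ring
  have h2 := LinearMap.finrank_range_add_finrank_ker (polarBilin Q a')
  have h3 : LinearMap.range (polarBilin Q a') = ⊤ := by
    rw [LinearMap.range_eq_top]
    intro t
    refine ⟨t • a, ?_⟩
    show 𝔣 a' (t • a) = t
    rw [polar_smul_right', haa, mul_one]
  rw [h3, finrank_top, Module.finrank_self] at h2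
  rw [htop, finrank_top] at h1
  omega

/-! ### The double complement -/

section Two

variable {c c' d d' : ι → F}

/-- The complement of two perpendicular hyperbolic pairs. -/
noncomputable abbrev WW2 (Q : QuadraticForm F (ι → F)) (c c' d d' : ι → F) : Submodule F (ι → F) := WW Q c c' ⊓ WW Q d d'

theorem mem_WW2 {x : ι → F} : x ∈ WW2 Q c c' d d' ↔ 𝔣 c x = 0 ∧ 𝔣 c' x = 0 ∧ 𝔣 d x = 0 ∧ 𝔣 d' x = 0 := by
  rw [WW2, Submodule.mem_inf, mem_WW, mem_WW]
  tauto

end Two

/-! ### The levels of the count -/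

section Levels

variable [Fintype Ω] [MulAction.IsPretransitive (GG Q) Ω] (hne : ∀ ω : Ω, ∃ g : GG Q, g • ω ≠ ω)

include hne

/-- The dimension is constant. -/
theorem finrank_XS_const (ω ω' : Ω) : finrank F (XS hne ω') = finrank F (XS hne ω) := by
  obtain ⟨g, rfl⟩ := MulAction.exists_smul_eq (GG Q) ω ω'
  exact finrank_XS_eq hne g ω

omit hne [MulAction.IsPretransitive (GG Q) Ω] in
/-- Bijections through group elements. -/
theorem card_move (P P' : Ω → Prop) [DecidablePred P] [DecidablePred P'] (g : GG Q) (h1 : ∀ ω, P ω → P' (g • ω))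
    (h2 : ∀ ω, P' ω → P (g⁻¹ • ω)) : (Finset.univ.filter P).card = (Finset.univ.filter P').card := by
  apply Finset.card_nbij' (fun ω => g • ω) (fun ω => g⁻¹ • ω)
  · intro ω hω
    simp only [Finset.coe_filter, Finset.mem_univ, true_and, Set.mem_ofPred_eq] at hω ⊢
    exact h1 ω hω
  · intro ω hω
    simp only [Finset.coe_filter, Finset.mem_univ, true_and, Set.mem_ofPred_eq] at hω ⊢
    exact h2 ω hω
  · intro ω _
    simp
  · intro ω _
    simp

/-- **The first level**. -/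
theorem level1 (ω₀ : Ω) {c : ι → F} (hc : c ≠ 0) (hQc : Q c = 0) [DecidablePred fun ω : Ω => c ∈ XS hne ω] :
    Fintype.card Ω * (Fintype.card F ^ finrank F (XS hne ω₀) - 1) =
      (singOf Q ⊤).card * (Finset.univ.filter fun ω : Ω => c ∈ XS hne ω).card := by
  classical
  have := double_count (Finset.univ : Finset Ω) (singOf Q ⊤) (fun ω x => x ∈ XS hne ω)
    (a := Fintype.card F ^ finrank F (XS hne ω₀) - 1) (f := (Finset.univ.filter fun ω : Ω => c ∈ XS hne ω).card) (by
    intro ω _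
    rw [finrank_XS_const hne ω ω₀, ← card_nonzero (XS hne ω)]
    congr 1
    ext x
    simp only [Finset.mem_filter, mem_singOf, Finset.mem_erase, Finset.mem_univ, true_and, Submodule.mem_top, and_true]
    constructor
    · rintro ⟨⟨h1, h2⟩, h3⟩
      exact ⟨h1, h3⟩
    · rintro ⟨h1, h3⟩
      exact ⟨⟨h1, XS_Q hne h3⟩, h3⟩) (by
    intro x hx
    obtain ⟨hx0, hQx, -⟩ := mem_singOf.1 hx
    obtain ⟨g, hg⟩ := exists_omega_vec (Q := Q) hx0 hc hQx hQc
    apply card_move _ _ g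
    · intro ω hω
      have := RFix_act hω g
      rwa [hg] at this
    · intro ω hω
      have := RFix_act hω g⁻¹
      rwa [← hg, act_GG_inv_act] at this)
  simpa using this

variable {c c' d d' : ι → F} (h : HP Q c c')

include h

/-- The vectors of the subspace perpendicular to the second vector. -/
theorem mem_X1 {ω : Ω} (hc : c ∈ XS hne ω) {x : ι → F} (hx : x ∈ XS hne ω) (hx' : 𝔣 c' x = 0) : x ∈ WW Q c c' :=
  mem_WW.2 ⟨XS_perp hne hc hx, hx'⟩

/-- **The second level**. -/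
theorem level2 (ω₀ : Ω) (hd : d ∈ singOf Q (WW Q c c'))
    [DecidablePred fun ω : Ω => c ∈ XS hne ω] [DecidablePred fun ω : Ω => c ∈ XS hne ω ∧ d ∈ XS hne ω] :
    (Finset.univ.filter fun ω : Ω => c ∈ XS hne ω).card * (Fintype.card F ^ (finrank F (XS hne ω₀) - 1) - 1) =
      (singOf Q (WW Q c c')).card * (Finset.univ.filter fun ω : Ω => c ∈ XS hne ω ∧ d ∈ XS hne ω).card := by
  classical
  have hp : 𝔣 c' c = 1 := h.hp'
  obtain ⟨hd0, hQd, hdW⟩ := mem_singOf.1 hd
  have := double_count (Finset.univ.filter fun ω : Ω => c ∈ XS hne ω) (singOf Q (WW Q c c')) (fun ω x => x ∈ XS hne ω)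
    (a := Fintype.card F ^ (finrank F (XS hne ω₀) - 1) - 1)
    (f := (Finset.univ.filter fun ω : Ω => c ∈ XS hne ω ∧ d ∈ XS hne ω).card) (by
    intro ω hω
    have hc : c ∈ XS hne ω := (Finset.mem_filter.1 hω).2
    have h1 := finrank_perp (Q := Q) (XS hne ω) hc hp
    have h2 : finrank F (XS hne ω₀) - 1 = finrank F ↥(XS hne ω ⊓ LinearMap.ker (polarBilin Q c')) := by
      rw [finrank_XS_const hne ω ω₀]
      omega
    rw [h2, ← card_nonzero (XS hne ω ⊓ LinearMap.ker (polarBilin Q c'))]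
    congr 1
    ext x
    simp only [Finset.mem_filter, mem_singOf, Finset.mem_erase, Finset.mem_univ, true_and, Submodule.mem_inf, LinearMap.mem_ker]
    constructor
    · rintro ⟨⟨h3, -, h5⟩, h6⟩
      exact ⟨h3, h6, WW_right h5⟩
    · rintro ⟨h3, h4, h5⟩
      exact ⟨⟨h3, XS_Q hne h4, mem_X1 hne h hc h4 h5⟩, h4⟩) (by
    intro x hx
    obtain ⟨hx0, hQx, hxW⟩ := mem_singOf.1 hx
    obtain ⟨g, hg1, hg2, hg3⟩ := exists_omega_triple h h hxW hdW hx0 hd0 (by rw [hQx, hQd])
    have hgi : act (g⁻¹).1 c = c := by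
      conv_lhs => rw [← hg1]
      exact act_GG_inv_act g c
    have hgd : act (g⁻¹).1 d = x := by
      rw [← hg3]
      exact act_GG_inv_act g x
    rw [Finset.filter_filter]
    apply card_move _ _ g
    · rintro ω ⟨h1, h2⟩
      have h3 := RFix_act h1 g
      have h4 := RFix_act h2 g
      rw [hg1] at h3
      rw [hg3] at h4
      exact ⟨h3, h4⟩
    · rintro ω ⟨h1, h2⟩
      have h3 := RFix_act h1 g⁻¹
      have h4 := RFix_act h2 g⁻¹
      rw [hgi] at h3
      rw [hgd] at h4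
      exact ⟨h3, h4⟩)
  simpa [Finset.filter_filter] using this

end Levels



/-- The numerical facts used for fixed points of root groups. -/
structure ANum (Q : QuadraticForm F (ι → F)) [OC Q] (c c' : ι → F) (N : ℕ) : Prop where
  hL : (singOf Q ⊤).card = (Fintype.card F - 1) * N
  h2 : Fintype.card F ^ 2 - 1 ≤ (singOf Q (WW Q c c')).card

section Final

variable {Ω : Type*} [MulAction (GG Q) Ω] [Fintype Ω] [MulAction.IsPretransitive (GG Q) Ω]

/-- Nonzero vectors of a subspace of positive dimension. -/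
theorem exists_ne_of_finrank {X : Submodule F (ι → F)} (hX : 0 < finrank F X) : ∃ x ∈ X, x ≠ 0 := by
  by_contra hcon
  push Not at hcon
  have : X = ⊥ := by
    rw [eq_bot_iff]
    intro x hx
    rw [Submodule.mem_bot]
    exact hcon x hx
  rw [this, finrank_bot] at hX
  exact lt_irrefl _ hX

/-- **Fixed points of root groups** give a large degree. -/
theorem case_A {c c' d d' : ι → F} (h : HP Q c c') (h' : HP Q d d') (hd : d ∈ WW Q c c') (hd' : d' ∈ WW Q c c') {N : ℕ}
    (hnum : ANum Q c c' N) (hne : ∀ ω : Ω, ∃ g : GG Q, g • ω ≠ ω) {ω₀ : Ω} {x : ι → F} (hx0 : x ≠ 0)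
    (hx : RFix Q ω₀ x) : N ≤ Fintype.card Ω := by
  classical
  set q := Fintype.card F with hq
  have hq2 : 2 ≤ q := by
    have := Fintype.one_lt_card (α := F)
    omega
  set r := finrank F (XS hne ω₀) with hr
  have hrpos : 0 < r := by
    rw [hr]
    by_contra h0
    have h1 : finrank F (XS hne ω₀) = 0 := by omega
    have h2 : XS hne ω₀ = ⊥ := Submodule.finrank_eq_zero.1 h1
    have h3 : x ∈ XS hne ω₀ := hx
    rw [h2] at h3
    exact hx0 h3
  -- the points
  obtain ⟨g, hg⟩ := exists_omega_vec (Q := Q) hx0 h.ne_zero hx.1 h.hc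
  have hc₀ : c ∈ XS hne (g • ω₀) := by
    have := RFix_act hx g
    rwa [hg] at this
  have hfr : ∀ ω, finrank F (XS hne ω) = r := fun ω => finrank_XS_const hne ω₀ ω
  set f₀ := (Finset.univ.filter fun ω : Ω => c ∈ XS hne ω).card with hf₀
  have hf₀pos : 0 < f₀ := Finset.card_pos.2 ⟨g • ω₀, Finset.mem_filter.2 ⟨Finset.mem_univ _, hc₀⟩⟩
  have hL1 := level1 hne ω₀ h.ne_zero h.hc
  rw [hnum.hL] at hL1
  rw [← hr] at hL1
  rw [← hf₀] at hL1
  replace hL1 : Fintype.card Ω * (q ^ r - 1) = (q - 1) * N * f₀ := hL1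
  have hk : 0 < q - 1 := by omega
  have hpow : ∀ k, 0 < k → 0 < q ^ k - 1 := by
    intro k hk
    have : q ^ 1 ≤ q ^ k := Nat.pow_le_pow_right (by omega) hk
    simp only [pow_one] at this
    omega
  rcases Nat.lt_or_ge r 2 with hr1 | hr2
  · -- dimension one
    have hr1' : r = 1 := by omega
    rw [hr1', pow_one] at hL1
    have h1 : Fintype.card Ω * (q - 1) = (q - 1) * (N * f₀) := by
      rw [hL1]
      ring
    rw [mul_comm (Fintype.card Ω)] at h1
    have h2 := Nat.eq_of_mul_eq_mul_left hk h1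
    rw [h2]
    exact Nat.le_mul_of_pos_right _ hf₀pos
  -- a vector at the second level
  obtain ⟨y, hy, hy0⟩ := exists_ne_of_finrank (X := XS hne (g • ω₀) ⊓ LinearMap.ker (polarBilin Q c')) (by
    have := finrank_perp (Q := Q) (XS hne (g • ω₀)) hc₀ h.hp'
    rw [hfr] at this
    omega)
  obtain ⟨hy1, hy2⟩ := hy
  have hyW : y ∈ WW Q c c' := mem_X1 hne h hc₀ hy1 hy2
  have hdmem : d ∈ singOf Q (WW Q c c') := mem_singOf.2 ⟨h'.ne_zero, h'.hc, hd⟩
  obtain ⟨g₂, hg1, hg2, hg3⟩ := exists_omega_triple h h hyW hd hy0 h'.ne_zero (by rw [XS_Q hne hy1, h'.hc])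
  set ω₁ := g₂ • g • ω₀ with hω₁
  have hc₁ : c ∈ XS hne ω₁ := by
    have := RFix_act hc₀ g₂
    rwa [hg1] at this
  have hd₁ : d ∈ XS hne ω₁ := by
    have := RFix_act hy1 g₂
    rwa [hg3] at this
  set f₁ := (Finset.univ.filter fun ω : Ω => c ∈ XS hne ω ∧ d ∈ XS hne ω).card with hf₁
  have hf₁pos : 0 < f₁ := Finset.card_pos.2 ⟨ω₁, Finset.mem_filter.2 ⟨Finset.mem_univ _, hc₁, hd₁⟩⟩
  have hL2 := level2 hne h ω₀ hdmem
  rw [← hr, ← hf₀, ← hf₁] at hL2
  replace hL2 : f₀ * (q ^ (r - 1) - 1) = (singOf Q (WW Q c c')).card * f₁ := hL2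
  set z := (singOf Q (WW Q c c')).card with hz
  have hr3 : r < 3 := by
    have := OC.ts (Q := Q) (XS hne ω₀) (fun x hx => XS_Q hne hx)
    omega
  · -- dimension two
    have hr' : r = 2 := by omega
    rw [hr'] at hL1 hL2
    simp only [Nat.add_one_sub_one, pow_one] at hL2
    have hA : 0 < q ^ 2 - 1 := hpow 2 (by norm_num)
    have h2 := hnum.h2
    refine Nat.le_of_mul_le_mul_right (c := q ^ 2 - 1) ?_ hA
    rw [hL1]
    calc N * (q ^ 2 - 1) ≤ N * z := Nat.mul_le_mul_left _ h2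
      _ ≤ N * (z * f₁) := Nat.mul_le_mul_left _ (Nat.le_mul_of_pos_right _ hf₁pos)
      _ = N * (f₀ * (q - 1)) := by rw [hL2]
      _ = (q - 1) * N * f₀ := by ring

/-- **The bound for the degree.** -/
theorem min_degree [Nontrivial Ω] {c c' d d' : ι → F} (h : HP Q c c') (h' : HP Q d d') (hd : d ∈ WW Q c c')
    (hd' : d' ∈ WW Q c c') {N p : ℕ} (hA : ANum Q c c' N) (hB : ONum Q c c' N p) {μ : F} (hμ : μ ≠ 0) (hμ' : μ * μ ≠ 1)
    (hp : p.Prime) (hp0 : (p : F) = 0) (hq : (2 : F) ≠ 0 ∨ ∃ σ : F, σ ≠ 0 ∧ σ ≠ 1) : N ≤ Fintype.card Ω := by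
  classical
  by_contra hcon
  push Not at hcon
  have hne : ∀ ω : Ω, ∃ g : GG Q, g • ω ≠ ω := by
    intro ω
    obtain ⟨ω', hω'⟩ := exists_ne ω
    obtain ⟨g, hg⟩ := MulAction.exists_smul_eq (GG Q) ω ω'
    exact ⟨g, by rw [hg]; exact hω'⟩
  have hno : ∀ (ω : Ω) (e : ι → F), e ≠ 0 → Q e = 0 → ¬ RFix Q ω e := by
    intro ω e he0 _ hfix
    have := case_A h h' hd hd' hA hne he0 hfix
    omega
  obtain ⟨t, ht⟩ := exists_torus h hμ hμ'
  obtain ⟨ψ, hψ⟩ : ∃ ψ : AddChar F ℂ, ψ ≠ 1 := by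
    obtain ⟨ψ, hψ⟩ := (AddChar.exists_apply_ne_zero (α := F)).mpr (one_ne_zero (α := F))
    exact ⟨ψ, fun h => hψ (by rw [h]; rfl)⟩
  obtain ⟨ω⟩ : Nonempty Ω := inferInstance
  exact case_B h ψ hψ hB hcon hno ht hp hp0 hq ω

end Final

end Cfsg.Agent.Lib.MinIndex.M6.Fix
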