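import Mathlib
import Cfsg.Agent.Lib.MinIndex.M6.Vec

/-!
# Minimal degree of the orthogonal groups: orbits of root groups, multiplicities and classes
-/

set_option autoImplicit false
set_option linter.unusedSectionVars false
set_option linter.unusedSimpArgs false
set_option linter.unusedVariables false

namespace Cfsg.Agent.Lib.MinIndex.M6.Good

open Matrix QuadraticMap Module
open Cfsg.Agent.Lib.Classical.Orth.Basic
open Cfsg.Agent.Lib.Classical.Witt.Hyp
open Cfsg.Agent.Lib.MinIndex.SpCount Cfsg.Agent.Lib.MinIndex.UCount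
open Cfsg.Agent.Lib.MinIndex.M6.Base Cfsg.Agent.Lib.MinIndex.M6.Vec

variable {ι : Type} [Fintype ι] [DecidableEq ι] {F : Type*} [Field F] [Fintype F]
variable {Q : QuadraticForm F (ι → F)}

set_option quotPrecheck false in
local notation "𝔣" => polar (⇑Q)

/-- A function with a trivial iterate fixing a small stable set. -/
theorem iter_fix {X : Type*} (τ : X → X) {p : ℕ} (hp : p.Prime) (hτ : ∀ x, τ^[p] x = x) (S : Finset X)
    (hS : ∀ x ∈ S, τ x ∈ S) (hc : S.card < p) {x : X} (hx : x ∈ S) : τ x = x := by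
  classical
  have hinj : Function.Injective τ := by
    intro a b hab
    have hp0 : p = (p - 1) + 1 := by
      have := hp.pos
      omega
    have h1 := hτ a
    have h2 := hτ b
    rw [hp0, Function.iterate_succ_apply] at h1 h2
    rw [← h1, ← h2, hab]
  have hiter : ∀ n, τ^[n] x ∈ S := by
    intro n
    induction n with
    | zero => exact hx
    | succ n ih =>
      rw [Function.iterate_succ_apply']
      exact hS _ ih
  obtain ⟨i, hi, j, hj, hne, hij⟩ := Finset.exists_ne_map_eq_of_card_lt_of_maps_to (s := Finset.range p) (t := S)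
    (by rwa [Finset.card_range]) (f := fun n => τ^[n] x) (fun n _ => hiter n)
  -- reduce to `i < j`
  obtain ⟨a, ha0, hap, hfix⟩ : ∃ a, 0 < a ∧ a < p ∧ τ^[a] x = x := by
    have key : ∀ i j, i < j → j < p → τ^[i] x = τ^[j] x → ∃ a, 0 < a ∧ a < p ∧ τ^[a] x = x := by
      intro i j hij hj h
      refine ⟨j - i, by omega, by omega, ?_⟩
      have h1 : j = i + (j - i) := by omega
      rw [h1, Function.iterate_add_apply] at h
      exact (hinj.iterate i h).symm
    rw [Finset.mem_range] at hi hj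
    rcases lt_or_gt_of_ne hne with h | h
    · exact key i j h hj hij
    · exact key j i h hi hij.symm
  have hfix' : ∀ k, τ^[a * k] x = x := by
    intro k
    induction k with
    | zero => rfl
    | succ k ih =>
      rw [Nat.mul_succ, Function.iterate_add_apply, hfix, ih]
  have hco : Nat.Coprime a p := ((Nat.Prime.coprime_iff_not_dvd hp).2 (Nat.not_dvd_of_pos_of_lt ha0 hap)).symm
  obtain ⟨m, hm⟩ := Nat.exists_mul_mod_eq_one_of_coprime hco hp.one_lt
  have hpk : ∀ k, τ^[p * k] x = x := by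
    intro k
    induction k with
    | zero => rfl
    | succ k ih =>
      rw [Nat.mul_succ, Function.iterate_add_apply, hτ, ih]
  have h5 : a * m = p * (a * m / p) + 1 := by
    have := Nat.div_add_mod (a * m) p
    rw [hm.2] at this
    exact this.symm
  have h6 := hfix' m
  rw [h5, Nat.add_comm, Function.iterate_add_apply, hpk] at h6
  exact h6

variable [OC Q]

noncomputable instance instFintypeWW (c c' : ι → F) : Fintype (WW Q c c') := Fintype.ofFinite _

variable {Ω : Type*} [MulAction (GG Q) Ω] {c c' : ι → F} (h : HP Q c c') (ψ : AddChar F ℂ) (hψ : ψ ≠ 1)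

/-- The annihilator of a point. -/
noncomputable abbrev AN (h : HP Q c c') (ψ : AddChar F ℂ) (hψ : ψ ≠ 1) (ω : Ω) : AddSubgroup (WW Q c c') :=
  SS (wS h Ω) (pW h ψ hψ) ω

theorem mem_stab {r : WW Q c c'} {ω : Ω} : r ∈ (wS h Ω).stab ω ↔ E h.hc (WW_left r.2) • ω = ω := Iff.rfl

theorem mem_AN {u : WW Q c c'} {ω : Ω} :
    u ∈ AN h ψ hψ ω ↔ ∀ r : WW Q c c', E h.hc (WW_left r.2) • ω = ω → ψ (𝔣 u.1 r.1) = 1 :=
  Iff.rfl

/-- Annihilators of orbit points. -/
theorem AN_act (w : WW Q c c') (ω : Ω) : AN h ψ hψ (E h.hc (WW_left w.2) • ω) = AN h ψ hψ ω := by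
  unfold AN SS
  rw [← wS_act h w ω, WSet.stab_act]

/-- A nontrivial character of a field detects zero along lines. -/
theorem eq_zero_of_char {a : F} (hψ : ψ ≠ 1) (h : ∀ t : F, ψ (t * a) = 1) : a = 0 := by
  by_contra ha
  obtain ⟨s, hs⟩ := AddChar.ne_one_iff.mp hψ
  apply hs
  have := h (s / a)
  rwa [div_mul_cancel₀ _ ha] at this

section FinSec

variable [Fintype Ω]

/-- A vector perpendicular to the annihilator lies in the stabilizer. -/
theorem stab_of_perp {ω : Ω} {r : WW Q c c'} (hr : ∀ a ∈ AN h ψ hψ ω, 𝔣 a.1 r.1 = 0) :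
    E h.hc (WW_left r.2) • ω = ω := by
  have h1 : r ∈ (pW h ψ hψ).ann (AN h ψ hψ ω) := by
    intro a ha
    show ψ (𝔣 r.1 a.1) = 1
    rw [polar_symm, hr a ha]
    exact AddChar.map_zero_eq_one ψ
  unfold AN SS at h1
  rwa [Pairing.ann_ann] at h1

/-- If a line lies in the stabilizer then its vector is perpendicular to the annihilator. -/
theorem perp_of_stab {ω : Ω} {r : WW Q c c'}
    (hr : ∀ t : F, E h.hc (WW_left (Submodule.smul_mem _ t r.2)) • ω = ω) {a : WW Q c c'}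
    (ha : a ∈ AN h ψ hψ ω) : 𝔣 a.1 r.1 = 0 := by
  apply eq_zero_of_char ψ hψ
  intro t
  have h1 := (mem_AN h ψ hψ).1 ha (⟨t • r.1, Submodule.smul_mem _ t r.2⟩) (hr t)
  simpa [polar_smul_right'] using h1

/-- The symmetry of an element scaling the pair. -/
theorem mem_AN_nrm {g : GG Q} {l : F} (hN : Nrm g l c c') {u : WW Q c c'} {ω : Ω} :
    lvE hN l⁻¹ (inv_ne_zero hN.l0) u ∈ AN h ψ hψ (g • ω) ↔ u ∈ AN h ψ hψ ω :=
  (symOf h ψ hψ hN).mem_SS

/-- Images of annihilators. -/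
theorem AN_nrm {g : GG Q} {l : F} (hN : Nrm g l c c') (ω : Ω) :
    AN h ψ hψ (g • ω) = (AN h ψ hψ ω).map (lvE hN l⁻¹ (inv_ne_zero hN.l0)).toAddMonoidHom :=
  (symOf h ψ hψ hN).SS_eq ω

/-- The invariance properties of a set of points. -/
structure Good (h : HP Q c c') (Y1 : Finset Ω) : Prop where
  inv : Inv (wS h Ω) Y1
  sym : ∀ (t : GG Q) (l : F), Nrm t l c c' → ∀ y ∈ Y1, t • y ∈ Y1

/-- The whole set is invariant. -/
theorem good_univ : Good h (Finset.univ : Finset Ω) :=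
  ⟨fun _ _ _ => Finset.mem_univ _, fun _ _ _ _ _ => Finset.mem_univ _⟩

open _root_.Classical in
/-- Points with a property. -/
noncomputable def Yp (P : Ω → Prop) : Finset Ω := Finset.univ.filter P

theorem mem_Yp {P : Ω → Prop} {y : Ω} : y ∈ Yp P ↔ P y := by
  classical
  simp [Yp]

/-- Predicates invariant under elements scaling the pair. -/
theorem good_of {P : Ω → Prop} (h1 : ∀ (w : WW Q c c') ω, P ω → P (E h.hc (WW_left w.2) • ω))
    (h2 : ∀ (t : GG Q) (l : F), Nrm t l c c' → ∀ ω, P ω → P (t • ω)) : Good h (Yp P) :=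
  ⟨fun y hy w => mem_Yp.2 (h1 w y (mem_Yp.1 hy)), fun t l hN y hy => mem_Yp.2 (h2 t l hN y (mem_Yp.1 hy))⟩

/-- Predicates on the annihilators. -/
theorem good_AN (P : AddSubgroup (WW Q c c') → Prop)
    (h2 : ∀ (t : GG Q) (l : F) (hN : Nrm t l c c') S, P S → P (S.map (lvE hN l⁻¹ (inv_ne_zero hN.l0)).toAddMonoidHom)) :
    Good h (Yp (fun ω : Ω => P (AN h ψ hψ ω))) := by
  apply good_of
  · intro w ω hω
    rwa [AN_act]
  · intro t l hN ω hω
    rw [AN_nrm h ψ hψ hN]
    exact h2 t l hN _ hω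

/-- The multiplicity in a set of points. -/
noncomputable abbrev mu (h : HP Q c c') (ψ : AddChar F ℂ) (hψ : ψ ≠ 1) (Y1 : Finset Ω) (u : WW Q c c') : ℕ :=
  mult (wS h Ω) (pW h ψ hψ) Y1 u

/-- A symmetry through an element scaling the pair. -/
theorem mu_le_nrm {Y1 : Finset Ω} (hG : Good h Y1) {t : GG Q} {l : F} (hN : Nrm t l c c') (u : WW Q c c') :
    mu h ψ hψ Y1 u ≤ mu h ψ hψ Y1 (lvE hN l⁻¹ (inv_ne_zero hN.l0) u) :=
  mult_le_of_sym (symOf h ψ hψ hN) (hG.sym t l hN) u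

/-- Vectors with proportional values of the form have the same multiplicities. -/
theorem mu_le_class {Y1 : Finset Ω} (hG : Good h Y1) {u v : WW Q c c'} (hu : u ≠ 0) (hv : v ≠ 0) {l : F} (hl : l ≠ 0)
    (huv : Q u.1 = l * l * Q v.1) : mu h ψ hψ Y1 u ≤ mu h ψ hψ Y1 v := by
  have hu0 : u.1 ≠ 0 := fun h0 => hu (Subtype.ext h0)
  have hv0 : v.1 ≠ 0 := fun h0 => hv (Subtype.ext h0)
  have hmem : l • v.1 ∈ WW Q (l • c) (l⁻¹ • c') := by
    rw [WW_scale c c' hl]
    exact Submodule.smul_mem _ _ v.2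
  obtain ⟨g, h1, h2, h3⟩ := exists_omega_triple h (h.scale hl) u.2 hmem hu0 (smul_ne_zero hl hv0)
    (by rw [Q_smul, huv])
  have hN : Nrm g l c c' := ⟨hl, h1, h2⟩
  have h4 := mu_le_nrm h ψ hψ hG hN u
  have h5 : lvE hN l⁻¹ (inv_ne_zero hN.l0) u = v := by
    apply Subtype.ext
    rw [coe_lvE, h3, smul_smul, inv_mul_cancel₀ hl, one_smul]
  rwa [h5] at h4

/-- Nonzero singular vectors have the same multiplicities. -/
theorem mu_le_sing {Y1 : Finset Ω} (hG : Good h Y1) {u v : WW Q c c'} (hu : u ≠ 0) (hv : v ≠ 0) (hQu : Q u.1 = 0)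
    (hQv : Q v.1 = 0) : mu h ψ hψ Y1 u ≤ mu h ψ hψ Y1 v :=
  mu_le_class h ψ hψ hG hu hv one_ne_zero (by rw [hQu, hQv, mul_zero])

/-- Nonzero singular vectors of the complement. -/
noncomputable def singW (Q : QuadraticForm F (ι → F)) (c c' : ι → F) : Finset (WW Q c c') := by
  classical
  exact Finset.univ.filter fun x => x ≠ 0 ∧ Q x.1 = 0

theorem mem_singW {x : WW Q c c'} : x ∈ singW Q c c' ↔ x ≠ 0 ∧ Q x.1 = 0 := by
  classical
  simp [singW]

/-- The class of a vector: vectors with proportional value of the form. -/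
noncomputable def clsW (u : WW Q c c') : Finset (WW Q c c') := by
  classical
  exact Finset.univ.filter fun x => x ≠ 0 ∧ ∃ l : F, l ≠ 0 ∧ Q u.1 = l * l * Q x.1

theorem mem_clsW {u x : WW Q c c'} : x ∈ clsW u ↔ x ≠ 0 ∧ ∃ l : F, l ≠ 0 ∧ Q u.1 = l * l * Q x.1 := by
  classical
  simp [clsW]

/-- A bound for invariant sets through classes. -/
theorem card_ge_of_mu {Y1 : Finset Ω} (hG : Good h Y1) {C : Finset (WW Q c c')} (h0 : (0 : WW Q c c') ∉ C) {m : ℕ}
    (hC : ∀ u ∈ C, m ≤ mu h ψ hψ Y1 u) : C.card * m ≤ Y1.card := by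
  have h1 := card_ge_classes (A := wS h Ω) (Q := pW h ψ hψ) hG.inv C ∅ h0 (by simp) (by simp) (m₁ := m) (m₂ := 0) hC (by simp)
  simp only [Finset.card_empty, zero_mul, add_zero] at h1
  omega

/-- The multiplicity bound for a class. -/
theorem mu_class_bound {Y1 : Finset Ω} (hG : Good h Y1) {u : WW Q c c'} (hu : u ≠ 0) :
    (clsW u).card * mu h ψ hψ Y1 u ≤ Y1.card := by
  apply card_ge_of_mu h ψ hψ hG
  · intro h0
    exact (mem_clsW.1 h0).1 rfl
  · intro v hv
    obtain ⟨hv0, l, hl, e⟩ := mem_clsW.1 hv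
    exact mu_le_class h ψ hψ hG hu hv0 hl e

/-- The multiplicity bound for singular vectors. -/
theorem mu_sing_bound {Y1 : Finset Ω} (hG : Good h Y1) {u : WW Q c c'} (hu : u ≠ 0) (hQu : Q u.1 = 0) :
    (singW Q c c').card * mu h ψ hψ Y1 u ≤ Y1.card := by
  apply card_ge_of_mu h ψ hψ hG
  · intro h0
    exact (mem_singW.1 h0).1 rfl
  · intro v hv
    obtain ⟨hv0, e⟩ := mem_singW.1 hv
    exact mu_le_sing h ψ hψ hG hu hv0 hQu e

/-- An orbit with a vector in its annihilator, moved by an element of order `p` fixing the vector, is fixed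
when the multiplicity is small. -/
theorem orb_fix {Y1 : Finset Ω} (hG : Good h Y1) {ω : Ω} (hω : ω ∈ Y1) {u : WW Q c c'} (hu : u ∈ AN h ψ hψ ω)
    {g : GG Q} {p : ℕ} (hp : p.Prime) (hgp : g ^ p = 1) (hN : Nrm g 1 c c') (hgu : act g.1 u.1 = u.1)
    (hm : mu h ψ hψ Y1 u < p) : (wS h Ω).orb (g • ω) = (wS h Ω).orb ω := by
  classical
  set s := symOf h ψ hψ hN (Ω := Ω) with hs
  have hκ : ∀ y : Ω, s.κ y = g • y := fun _ => rfl
  have hϕu : s.ϕ u = u := by
    apply Subtype.ext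
    show (1 : F)⁻¹ • act g.1 u.1 = u.1
    rw [inv_one, one_smul, hgu]
  set τ : Finset Ω → Finset Ω := fun O => O.image (fun y => g • y) with hτ
  have hτorb : ∀ y : Ω, τ ((wS h Ω).orb y) = (wS h Ω).orb (g • y) := fun y => (s.orb_eq y).symm
  have hiter : ∀ (k : ℕ) (O : Finset Ω), τ^[k] O = O.image (fun y => g ^ k • y) := by
    intro k O
    induction k with
    | zero => simp
    | succ k ih =>
      rw [Function.iterate_succ_apply', ih, hτ]
      simp only [Finset.image_image]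
      congr 1
      funext y
      simp [pow_succ', mul_smul]
  have hτp : ∀ O, τ^[p] O = O := by
    intro O
    rw [hiter, hgp]
    simp
  have hS := iter_fix τ hp hτp ((Orbs (wS h Ω) Y1).filter (fun O => ∃ y ∈ O, u ∈ SS (wS h Ω) (pW h ψ hψ) y)) (by
    intro O hO
    obtain ⟨h1, y, hy, huy⟩ := Finset.mem_filter.mp hO
    obtain ⟨y₀, hy₀, rfl⟩ := mem_Orbs.mp h1
    refine Finset.mem_filter.mpr ⟨mem_Orbs.mpr ⟨g • y₀, hG.sym g 1 hN _ hy₀, (hτorb y₀).symm⟩, g • y, ?_, ?_⟩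
    · exact Finset.mem_image_of_mem _ hy
    · have h3 := s.mem_SS.mpr huy
      rw [hϕu] at h3
      exact h3) (by
    have : mult (wS h Ω) (pW h ψ hψ) Y1 u < p := hm
    unfold mult at this
    convert this) (x := (wS h Ω).orb ω) (by
    refine Finset.mem_filter.mpr ⟨mem_Orbs.mpr ⟨ω, hω, rfl⟩, ω, (wS h Ω).self_mem_orb ω, hu⟩)
  rw [hτorb] at hS
  exact hS

/-- The annihilator is invariant under such an element. -/
theorem AN_fix {Y1 : Finset Ω} (hG : Good h Y1) {ω : Ω} (hω : ω ∈ Y1) {u : WW Q c c'} (hu : u ∈ AN h ψ hψ ω)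
    {g : GG Q} {p : ℕ} (hp : p.Prime) (hgp : g ^ p = 1) (hN : Nrm g 1 c c') (hgu : act g.1 u.1 = u.1)
    (hm : mu h ψ hψ Y1 u < p) {x : WW Q c c'} (hx : x ∈ AN h ψ hψ ω) : ∃ y ∈ AN h ψ hψ ω, y.1 = act g.1 x.1 := by
  have h1 := orb_fix h ψ hψ hG hω hu hp hgp hN hgu hm
  have h2 : g • ω ∈ (wS h Ω).orb ω := by
    rw [← h1]
    exact (wS h Ω).self_mem_orb _
  have h3 : AN h ψ hψ (g • ω) = AN h ψ hψ ω := SS_of_mem_orb h2
  have h4 := (mem_AN_nrm h ψ hψ hN (ω := ω)).2 hx
  rw [h3] at h4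
  refine ⟨_, h4, ?_⟩
  rw [coe_lvE, inv_one, one_smul]

end FinSec

end Cfsg.Agent.Lib.MinIndex.M6.Good
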